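import Cfsg.Agent.Lib.J2.Out2.Data

set_option autoImplicit false
set_option maxRecDepth 100000
set_option maxHeartbeats 0

namespace Cfsg.Agent.Lib.J2.Out2

open Cfsg Cfsg.Agent.Lib.PermComp.OutP Cfsg.Agent.Lib.J2
open Cfsg.Agent.Lib.PermComp
open Cfsg.Agent.Lib.PermComp.Core (force)
open Cfsg.Agent.Lib.PermComp.Kron (rangeAll rangeAll_spec)

theorem dL0_lv : rangeAll (levOK n F dL0) 0 315 = true := by decide +kernel
theorem dL0_fx : fixOK F 0 2 [] = true := by decide +kernel
theorem dL1_lv : rangeAll (levOK n F dL1) 0 160 = true := by decide +kernel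
theorem dL1_fx : fixOK F 2 2 [0] = true := by decide +kernel
theorem dL2_lv : rangeAll (levOK n F dL2) 0 12 = true := by decide +kernel
theorem dL2_fx : fixOK F 4 2 [106, 0] = true := by decide +kernel
theorem cL0_lv : rangeAll (levOK n F cL0) 0 160 = true := by decide +kernel
theorem cL0_fx : fixOK F 15 3 [] = true := by decide +kernel
theorem cL0_cm : rangeAll (fun g => rangeAll (fun q => Nat.beq (F g (F 1 q)) (F 1 (F g q))) 0 315) 15 3 = true := by decide +kernel
theorem cL1_lv : rangeAll (levOK n F cL1) 0 12 = true := by decide +kernel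
theorem cL1_fx : fixOK F 18 2 [0] = true := by decide +kernel
theorem cL1_cm : rangeAll (fun g => rangeAll (fun q => Nat.beq (F g (F 1 q)) (F 1 (F g q))) 0 315) 18 2 = true := by decide +kernel
theorem zinv_ck : rangeAll (fun g => rangeAll (fun q => Nat.beq (F g (F g q)) q) 0 315) 26 6 = true := by decide +kernel
theorem b2_ck : rangeAll (fun q => Nat.beq (F 1 (F 1 q)) q) 0 315 = true := by decide +kernel
theorem Ap_ck : rangeAll (fun q => Nat.beq (powA (F 0) 7 q) q) 0 315 = true := by decide +kernel
theorem b1_ck : F 1 0 ≠ 0 := by decide +kernel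
theorem A1_ck : F 0 0 ≠ 0 := by decide +kernel
theorem rel_ck : Core.allL (fun r => rangeAll (relAll (F 0) (F 1) r.1 r.2.1) 0 315) rs = true := by decide +kernel
theorem good_ck : Core.allL (fun x => Core.ifB (Nat.ble x.2 7) (goodOK F DD 0 7 Bs x)) goods = true := by decide +kernel
theorem good2_ck : Core.allL (fun x => Core.ifB (Nat.ble x.2 7) (goodOK2 F DD 0 7 Bs 251 x)) goods2 = true := by decide +kernel
theorem cr_ck : rangeAll (fun q => Nat.beq (F 64 (F 0 q)) (powA (F 0) 3 (F 64 q))) 0 315 = true := by decide +kernel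

end Cfsg.Agent.Lib.J2.Out2
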