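import Cfsg.Agent.Lib.J2.Out2.Data

set_option autoImplicit false
set_option maxRecDepth 100000
set_option maxHeartbeats 0

namespace Cfsg.Agent.Lib.J2.Out2

open Cfsg Cfsg.Agent.Lib.PermComp.OutP Cfsg.Agent.Lib.J2
open Cfsg.Agent.Lib.PermComp
open Cfsg.Agent.Lib.PermComp.Core (force)
open Cfsg.Agent.Lib.PermComp.Kron (rangeAll rangeAll_spec)

theorem ji_ck : rangeAll (invOK n (F 77) (F 78)) 0 315 = true := by decide +kernel
theorem jA_ck : rangeAll (fun q => Nat.beq (F 77 (F 0 q)) (F 0 (F 77 q))) 0 315 = true := by decide +kernel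
theorem jb_ck : rangeAll (fun q => Nat.beq (F 77 (DD.v F 251 q)) (F 1 (F 77 q))) 0 315 = true := by decide +kernel
def rwL : List Nat := [5, 4, 2, 1, 0, 1, 0, 0, 0, 0, 1, 0]
theorem gr_ck : rangeAll (fun q => Nat.beq (F 79 q) (wApp F rwL (F 77 q))) 0 315 = true := by decide +kernel
theorem d1s_ck : rangeAll (fun q => Core.ifB (Nat.blt (dL0.pi q) dL0.m) (Nat.beq (dL0.pt (dL0.pi q)) q)) 0 315 = true := by decide +kernel
theorem mv_ck : rangeAll (moved F dL0.b dL1.off dL1.cnt) 0 315 = true := by decide +kernel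

end Cfsg.Agent.Lib.J2.Out2
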